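import Groth.Agent.H4DR.TorAmp.Derived
import Mathlib.Algebra.Category.Ring.FilteredColimits
import Mathlib.CategoryTheory.Limits.Types.Filtered
import Mathlib.LinearAlgebra.Matrix.ToLin
import Mathlib.Data.Int.Interval

/-!
# Perfect complexes descend along filtered colimits of rings
-/

set_option autoImplicit false
set_option linter.style.haveILetI false
set_option linter.unusedSectionVars false
set_option backward.isDefEq.respectTransparency false

universe u

open CategoryTheory CategoryTheory.Limits Groth.Agent.H16Derived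
open scoped TensorProduct

attribute [local instance] HasDerivedCategory.standard

namespace Groth.Agent.H4DR.Descend

/-- Matrices presenting a bounded complex of finite projective modules. -/
structure Data (S : Type u) [CommRing S] (n : ℤ → ℕ) : Type u where
  /-- idempotents -/
  e : ∀ i, Matrix (Fin (n i)) (Fin (n i)) S
  /-- differentials -/
  D : ∀ i, Matrix (Fin (n (i + 1))) (Fin (n i)) S

variable {S T : Type u} [CommRing S] [CommRing T] {n : ℤ → ℕ}

/-- Change of rings. -/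
def Data.map (φ : S →+* T) (M : Data S n) : Data T n :=
  ⟨fun i => (M.e i).map φ, fun i => (M.D i).map φ⟩

theorem Data.map_map {U : Type u} [CommRing U] (φ : S →+* T) (ψ : T →+* U) (M : Data S n) :
    (M.map φ).map ψ = M.map (ψ.comp φ) := by
  simp [Data.map, Function.comp_def]

/-- The relations in degree `i`. -/
def Data.GoodAt (M : Data S n) (i : ℤ) : Prop :=
  M.e i * M.e i = M.e i ∧ M.e (i + 1) * M.D i = M.D i ∧ M.D i * M.e i = M.D i ∧ M.D (i + 1) * M.D i = 0

theorem Data.GoodAt.map (φ : S →+* T) {M : Data S n} {i : ℤ} (h : M.GoodAt i) : (M.map φ).GoodAt i :=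
  ⟨by simp only [Data.map, ← Matrix.map_mul, h.1], by simp only [Data.map, ← Matrix.map_mul, h.2.1],
    by simp only [Data.map, ← Matrix.map_mul, h.2.2.1],
    by simp only [Data.map, ← Matrix.map_mul, h.2.2.2, Matrix.map_zero _ (map_zero φ)]⟩

section Colimit

variable {J : Type u} [SmallCategory J] [IsFiltered J] {F : J ⥤ CommRingCat.{u}} {c : Cocone F}
  (hc : IsColimit c)

include hc

theorem exists_lift {ι : Type*} [Finite ι] (x : ι → c.pt) :
    ∃ (j : J) (y : ι → F.obj j), ∀ a, (c.ι.app j).hom (y a) = x a := by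
  classical
  haveI := Fintype.ofFinite ι
  choose j y hy using fun a => Concrete.isColimit_exists_rep F hc (x a)
  obtain ⟨S, hS⟩ := IsFiltered.sup_objs_exists (Finset.univ.image j)
  have e : ∀ a, j a ⟶ S := fun a => (hS (Finset.mem_image.2 ⟨a, Finset.mem_univ a, rfl⟩)).some
  exact ⟨S, fun a => (F.map (e a)).hom (y a), fun a =>
    (congrArg (fun t : F.obj (j a) ⟶ c.pt => t.hom (y a)) (c.w (e a))).trans (hy a)⟩

theorem exists_eq {j : J} {ι : Type*} (s : Finset ι) (y z : ι → F.obj j)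
    (h : ∀ a ∈ s, (c.ι.app j).hom (y a) = (c.ι.app j).hom (z a)) :
    ∃ (k : J) (φ : j ⟶ k), ∀ a ∈ s, (F.map φ).hom (y a) = (F.map φ).hom (z a) := by
  classical
  induction s using Finset.induction with
  | empty => exact ⟨j, 𝟙 j, fun a ha => absurd ha (Finset.notMem_empty a)⟩
  | insert a s ha ih =>
    obtain ⟨k, φ, hφ⟩ := ih fun b hb => h b (Finset.mem_insert_of_mem hb)
    have hw : ∀ w : F.obj j, (c.ι.app k).hom ((F.map φ).hom w) = (c.ι.app j).hom w := fun w =>
      congrArg (fun t : F.obj j ⟶ c.pt => t.hom w) (c.w φ)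
    obtain ⟨l, f, g, hfg⟩ := (Concrete.isColimit_rep_eq_iff_exists F hc ((F.map φ).hom (y a))
      ((F.map φ).hom (z a))).1 ((hw _).trans ((h a (Finset.mem_insert_self a s)).trans (hw _).symm))
    obtain ⟨l', t, ht⟩ : ∃ (l' : J) (t : l ⟶ l'), f ≫ t = g ≫ t :=
      ⟨_, IsFiltered.coeqHom f g, IsFiltered.coeq_condition f g⟩
    refine ⟨l', φ ≫ f ≫ t, fun b hb => ?_⟩
    rcases Finset.mem_insert.1 hb with rfl | hb
    · simp only [Functor.map_comp, CommRingCat.hom_comp, RingHom.comp_apply]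
      refine (congrArg (F.map t).hom hfg).trans ?_
      have h2 := congrArg (fun u : k ⟶ l' => (F.map u).hom ((F.map φ).hom (z b))) ht
      simpa [Functor.map_comp] using h2.symm
    · simp only [Functor.map_comp, CommRingCat.hom_comp, RingHom.comp_apply]
      rw [hφ b hb]

theorem exists_matrix_eq {p q : ℕ} {j : J} (A B : Matrix (Fin p) (Fin q) (F.obj j))
    (h : A.map (c.ι.app j).hom = B.map (c.ι.app j).hom) :
    ∃ (k : J) (φ : j ⟶ k), A.map (F.map φ).hom = B.map (F.map φ).hom := by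
  obtain ⟨k, φ, hk⟩ := exists_eq hc Finset.univ (fun a : Fin p × Fin q => A a.1 a.2) (fun a => B a.1 a.2)
    fun a _ => congrFun (congrFun h a.1) a.2
  exact ⟨k, φ, Matrix.ext fun x y => hk (x, y) (Finset.mem_univ _)⟩

theorem exists_goodAt {j : J} (M : Data (F.obj j) n) (i : ℤ) (h : (M.map (c.ι.app j).hom).GoodAt i) :
    ∃ (k : J) (φ : j ⟶ k), (M.map (F.map φ).hom).GoodAt i := by
  have hw : ∀ {k : J} (φ : j ⟶ k), (c.ι.app k).hom.comp (F.map φ).hom = (c.ι.app j).hom := fun φ => by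
    rw [← CommRingCat.hom_comp, c.w φ]
  obtain ⟨h1, h2, h3, h4⟩ := h
  simp only [Data.map] at h1 h2 h3 h4
  obtain ⟨k₁, φ₁, e₁⟩ := exists_matrix_eq hc (M.e i * M.e i) (M.e i) (by rw [Matrix.map_mul, h1])
  obtain ⟨k₂, φ₂, e₂⟩ := exists_matrix_eq hc (M.e (i + 1) * M.D i) (M.D i) (by rw [Matrix.map_mul, h2])
  obtain ⟨k₃, φ₃, e₃⟩ := exists_matrix_eq hc (M.D i * M.e i) (M.D i) (by rw [Matrix.map_mul, h3])
  obtain ⟨k₄, φ₄, e₄⟩ := exists_matrix_eq hc (M.D (i + 1) * M.D i) 0
    (by rw [Matrix.map_mul, h4, Matrix.map_zero _ (map_zero _)])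
  obtain ⟨K₁, a, b, hab⟩ := IsFiltered.span φ₁ φ₂
  obtain ⟨K₂, a', b', hab'⟩ := IsFiltered.span φ₃ φ₄
  obtain ⟨K, u, v, huv⟩ := IsFiltered.span (φ₁ ≫ a) (φ₃ ≫ a')
  refine ⟨K, φ₁ ≫ a ≫ u, ?_⟩
  have push : ∀ {k : J} {p q : ℕ} (φ : j ⟶ k) (w : k ⟶ K) (A B : Matrix (Fin p) (Fin q) (F.obj j)),
      φ ≫ w = φ₁ ≫ a ≫ u → A.map (F.map φ).hom = B.map (F.map φ).hom →
      A.map (F.map (φ₁ ≫ a ≫ u)).hom = B.map (F.map (φ₁ ≫ a ≫ u)).hom := by
    intro k p q φ w A B hw' hAB
    rw [← hw', Functor.map_comp, CommRingCat.hom_comp, RingHom.coe_comp, ← Matrix.map_map, hAB, Matrix.map_map]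
  have p2 : φ₂ ≫ b ≫ u = φ₁ ≫ a ≫ u := by rw [← Category.assoc, ← hab, Category.assoc]
  have p3 : φ₃ ≫ a' ≫ v = φ₁ ≫ a ≫ u := by rw [← Category.assoc, ← huv, Category.assoc]
  have p4 : φ₄ ≫ b' ≫ v = φ₁ ≫ a ≫ u := by rw [← Category.assoc, ← hab', Category.assoc, p3]
  refine ⟨?_, ?_, ?_, ?_⟩ <;> simp only [Data.map, ← Matrix.map_mul]
  · exact push φ₁ (a ≫ u) _ _ rfl e₁
  · exact push φ₂ (b ≫ u) _ _ p2 e₂
  · exact push φ₃ (a' ≫ v) _ _ p3 e₃
  · exact (push φ₄ (b' ≫ v) _ _ p4 e₄).trans (Matrix.map_zero _ (map_zero _))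

theorem exists_good {j : J} (M : Data (F.obj j) n) (s : Finset ℤ)
    (h : ∀ i ∈ s, (M.map (c.ι.app j).hom).GoodAt i) :
    ∃ (k : J) (φ : j ⟶ k), ∀ i ∈ s, (M.map (F.map φ).hom).GoodAt i := by
  classical
  induction s using Finset.induction with
  | empty => exact ⟨j, 𝟙 j, fun a ha => absurd ha (Finset.notMem_empty a)⟩
  | insert i s hi ih =>
    obtain ⟨k, φ, hφ⟩ := ih fun b hb => h b (Finset.mem_insert_of_mem hb)
    obtain ⟨l, ψ, hψ⟩ := exists_goodAt hc (M.map (F.map φ).hom) i (by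
      rw [Data.map_map, ← CommRingCat.hom_comp, c.w φ]
      exact h i (Finset.mem_insert_self i s))
    refine ⟨l, φ ≫ ψ, fun b hb => ?_⟩
    rw [Functor.map_comp, CommRingCat.hom_comp, ← Data.map_map]
    rcases Finset.mem_insert.1 hb with rfl | hb
    · exact hψ
    · exact (hφ b hb).map _

theorem exists_data (M : Data c.pt n) (s : Finset ℤ) (hn : ∀ i, i ∉ s → n i = 0) :
    ∃ (j : J) (M' : Data (F.obj j) n), M'.map (c.ι.app j).hom = M := by
  classical
  let s' : Finset ℤ := s ∪ s.image (fun i => i - 1)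
  let xL : (Σ i : s', Fin (n i.1) × Fin (n i.1)) → c.pt := fun a => M.e a.1.1 a.2.1 a.2.2
  let xR : (Σ i : s', Fin (n (i.1 + 1)) × Fin (n i.1)) → c.pt := fun a => M.D a.1.1 a.2.1 a.2.2
  obtain ⟨j, y, hy⟩ := exists_lift hc (Sum.elim xL xR)
  refine ⟨j, ⟨fun i => Matrix.of fun x z => if hi : i ∈ s' then y (Sum.inl ⟨⟨i, hi⟩, (x, z)⟩) else 0,
    fun i => Matrix.of fun x z => if hi : i ∈ s' then y (Sum.inr ⟨⟨i, hi⟩, (x, z)⟩) else 0⟩, ?_⟩
  have hz : ∀ i, i ∉ s' → IsEmpty (Fin (n i)) := fun i hi => by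
    rw [hn i fun h => hi (Finset.mem_union_left _ h)]
    infer_instance
  obtain ⟨Me, MD⟩ := M
  refine congrArg₂ Data.mk ?_ ?_
  · funext i
    ext x z
    by_cases hi : i ∈ s'
    · simp only [Matrix.map_apply, Matrix.of_apply, dif_pos hi]
      exact hy (Sum.inl ⟨⟨i, hi⟩, (x, z)⟩)
    · exact (hz i hi).elim x
  · funext i
    ext x z
    by_cases hi : i ∈ s'
    · simp only [Matrix.map_apply, Matrix.of_apply, dif_pos hi]
      exact hy (Sum.inr ⟨⟨i, hi⟩, (x, z)⟩)
    · exact (hz i hi).elim z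

end Colimit

section Cx

variable (M : Data S n) (hM : ∀ i, M.GoodAt i)

/-- The projective module in degree `i`. -/
noncomputable abbrev P (i : ℤ) : Submodule S (Fin (n i) → S) := LinearMap.range (Matrix.toLin' (M.e i))

/-- The differential. -/
noncomputable def dP (i : ℤ) : P M i →ₗ[S] P M (i + 1) :=
  (Matrix.toLin' (M.e (i + 1)) ∘ₗ Matrix.toLin' (M.D i) ∘ₗ (P M i).subtype).codRestrict _
    fun x => LinearMap.mem_range_self _ _

include hM in
theorem coe_dP (i : ℤ) (x : P M i) : (dP M i x : Fin (n (i + 1)) → S) = Matrix.toLin' (M.D i) x := by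
  show (Matrix.toLin' (M.e (i + 1)) ∘ₗ Matrix.toLin' (M.D i)) (x : Fin (n i) → S) = _
  rw [← Matrix.toLin'_mul, (hM i).2.1]

/-- The complex. -/
noncomputable def cx : DRing.Cx S :=
  CochainComplex.of (fun i => ModuleCat.of S (P M i)) (fun i => ModuleCat.ofHom (dP M i)) fun i => by
    refine ModuleCat.hom_ext (LinearMap.ext fun x => Subtype.ext ?_)
    show (dP M (i + 1) (dP M i x) : Fin (n (i + 1 + 1)) → S) = 0
    rw [coe_dP M hM, coe_dP M hM, ← LinearMap.comp_apply, ← Matrix.toLin'_mul, (hM i).2.2.2, map_zero,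
      LinearMap.zero_apply]

variable (φ : S →+* T)

/-- Coordinatewise map. -/
noncomputable def coord (p : ℕ) :
    ModuleCat.of S (Fin p → S) ⟶ (ModuleCat.restrictScalars.{u} φ).obj (ModuleCat.of T (Fin p → T)) :=
  ModuleCat.ofHom (Y := ((ModuleCat.restrictScalars.{u} φ).obj (ModuleCat.of T (Fin p → T)) : ModuleCat.{u} S))
    { toFun := fun v => (show (ModuleCat.restrictScalars.{u} φ).obj (ModuleCat.of T (Fin p → T)) from
        (fun k => φ (v k) : Fin p → T))
      map_add' := fun v w => funext fun k => map_add φ _ _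
      map_smul' := fun r v => funext fun k => map_mul φ r (v k) }

/-- `T ⊗ S^p → T^p`. -/
noncomputable def can (p : ℕ) :
    (ModuleCat.extendScalars.{u, u, u} φ).obj (ModuleCat.of S (Fin p → S)) ⟶ ModuleCat.of T (Fin p → T) :=
  ((ModuleCat.extendRestrictScalarsAdj φ).homEquiv _ _).symm (coord φ p)

theorem isIso_can (p : ℕ) : IsIso (can φ p) := by
  classical
  letI := φ.toAlgebra
  have hcan : ∀ (t : T) (v : Fin p → S), (can φ p).hom
      (show (ModuleCat.extendScalars.{u, u, u} φ).obj (ModuleCat.of S (Fin p → S)) from t ⊗ₜ[S] v) =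
      t • (fun k => φ (v k) : Fin p → T) := fun t v => rfl
  refine (ConcreteCategory.isIso_iff_bijective _).2
    (Function.bijective_iff_has_inverse.2 ⟨fun w => (TensorProduct.piScalarRight S T T (Fin p)).symm w, ?_, ?_⟩)
  · intro z
    refine (LinearEquiv.symm_apply_eq _).2 ?_
    induction z using TensorProduct.induction_on with
    | zero => exact (map_zero _).trans (map_zero _).symm
    | tmul t v =>
      refine (hcan t v).trans ?_
      exact funext fun k => mul_comm (show T from t) (φ (v k))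
    | add a b ha hb => exact (map_add _ _ _).trans ((congrArg₂ (· + ·) ha hb).trans (map_add _ _ _).symm)
  · intro w
    obtain ⟨z, rfl⟩ := (TensorProduct.piScalarRight S T T (Fin p)).surjective w
    refine (congrArg _ (LinearEquiv.symm_apply_apply _ z)).trans ?_
    induction z using TensorProduct.induction_on with
    | zero => exact (map_zero _).trans (map_zero _).symm
    | tmul t v =>
      refine (hcan t v).trans ?_
      exact funext fun k => mul_comm (show T from t) (φ (v k))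
    | add a b ha hb => exact (map_add _ _ _).trans ((congrArg₂ (· + ·) ha hb).trans (map_add _ _ _).symm)

theorem can_naturality {p q : ℕ} (A : Matrix (Fin q) (Fin p) S) :
    (ModuleCat.extendScalars.{u, u, u} φ).map (ModuleCat.ofHom (Matrix.toLin' A)) ≫ can φ q =
      can φ p ≫ ModuleCat.ofHom (Matrix.toLin' (A.map φ)) := by
  rw [can, can, ← Adjunction.homEquiv_naturality_left_symm, ← Adjunction.homEquiv_naturality_right_symm]
  refine congrArg _ (ModuleCat.hom_ext (LinearMap.ext fun v => funext fun k => ?_))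
  exact RingHom.map_mulVec φ A v k

variable {E : DRing.Cx T} (r : ∀ i, (Fin (n i) → T) →ₗ[T] E.X i) (s : ∀ i, E.X i →ₗ[T] (Fin (n i) → T))
  (hrs : ∀ i x, r i (s i x) = x)
  (he : ∀ i, Matrix.toLin' ((M.e i).map φ) = s i ∘ₗ r i)
  (hD : ∀ i, Matrix.toLin' ((M.D i).map φ) = s (i + 1) ∘ₗ (E.d i (i + 1)).hom ∘ₗ r i)

include hM hrs he hD in
theorem nonempty_ext_iso :
    Nonempty (((ModuleCat.extendScalars.{u, u, u} φ).mapHomologicalComplex (ComplexShape.up ℤ)).obj (cx M hM) ≅ E) := by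
  let G := ModuleCat.extendScalars.{u, u, u} φ
  let inc : ∀ i, ModuleCat.of S (P M i) ⟶ ModuleCat.of S (Fin (n i) → S) := fun i => ModuleCat.ofHom (P M i).subtype
  let prj : ∀ i, ModuleCat.of S (Fin (n i) → S) ⟶ ModuleCat.of S (P M i) := fun i =>
    ModuleCat.ofHom (Matrix.toLin' (M.e i)).rangeRestrict
  have h1 : ∀ i, inc i ≫ prj i = 𝟙 _ := fun i => ModuleCat.hom_ext (LinearMap.ext fun x => Subtype.ext (by
    obtain ⟨y, hy⟩ := x.2
    show Matrix.toLin' (M.e i) (x : Fin (n i) → S) = x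
    rw [← hy, ← LinearMap.comp_apply, ← Matrix.toLin'_mul, (hM i).1]))
  have h2 : ∀ i, prj i ≫ inc i = ModuleCat.ofHom (Matrix.toLin' (M.e i)) := fun i => rfl
  haveI := fun i => isIso_can φ (n i)
  let R : ∀ i, ModuleCat.of T (Fin (n i) → T) ⟶ E.X i := fun i => ModuleCat.ofHom (r i)
  let s' : ∀ i, E.X i ⟶ ModuleCat.of T (Fin (n i) → T) := fun i => ModuleCat.ofHom (s i)
  have hsR : ∀ i, s' i ≫ R i = 𝟙 _ := fun i => ModuleCat.hom_ext (LinearMap.ext (hrs i))
  have hRs : ∀ i, R i ≫ s' i = ModuleCat.ofHom (Matrix.toLin' ((M.e i).map φ)) := fun i =>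
    ModuleCat.hom_ext (he i).symm
  let e : ∀ i, G.obj (ModuleCat.of S (P M i)) ≅ E.X i := fun i =>
    { hom := G.map (inc i) ≫ can φ (n i) ≫ R i
      inv := s' i ≫ inv (can φ (n i)) ≫ G.map (prj i)
      hom_inv_id := by
        have := can_naturality φ (M.e i)
        simp only [Category.assoc]
        rw [reassoc_of% (hRs i), ← reassoc_of% this, IsIso.hom_inv_id_assoc, ← G.map_comp, ← G.map_comp,
          ← h2, Category.assoc, h1, Category.comp_id, h1, CategoryTheory.Functor.map_id]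
      inv_hom_id := by
        have := can_naturality φ (M.e i)
        simp only [Category.assoc]
        rw [← G.map_comp_assoc, h2, reassoc_of% this, IsIso.inv_hom_id_assoc, ← hRs, Category.assoc,
          hsR, Category.comp_id, hsR] }
  refine ⟨HomologicalComplex.Hom.isoOfComponents e fun i j hij => ?_⟩
  obtain rfl : i + 1 = j := hij
  have hd : (cx M hM).d i (i + 1) = ModuleCat.ofHom (dP M i) :=
    CochainComplex.of_d (fun i => ModuleCat.of S (P M i)) (fun i => ModuleCat.ofHom (dP M i)) i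
  have key : ModuleCat.ofHom (dP M i) ≫ inc (i + 1) = inc i ≫ ModuleCat.ofHom (Matrix.toLin' (M.D i)) :=
    ModuleCat.hom_ext (LinearMap.ext fun x => coe_dP M hM i x)
  have hDD : ModuleCat.ofHom (Matrix.toLin' ((M.D i).map φ)) = R i ≫ E.d i (i + 1) ≫ s' (i + 1) :=
    ModuleCat.hom_ext (hD i)
  show (G.map (inc i) ≫ can φ (n i) ≫ R i) ≫ E.d i (i + 1) =
    G.map ((cx M hM).d i (i + 1)) ≫ G.map (inc (i + 1)) ≫ can φ (n (i + 1)) ≫ R (i + 1)
  rw [hd, ← G.map_comp_assoc, key, G.map_comp_assoc, reassoc_of% (can_naturality φ (M.D i)), hDD]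
  simp only [Category.assoc, hsR, Category.comp_id]

end Cx

theorem exists_perfect_descends {J : Type u} [SmallCategory J] [IsFiltered J] (F : J ⥤ CommRingCat.{u})
    (c : Cocone F) (hc : IsColimit c) [∀ j : J, DRing.HasLBaseChange (c.ι.app j).hom] (K : Dual.D c.pt)
    (hK : DRing.IsPerfect c.pt K) :
    ∃ (j : J) (Kj : Dual.D (F.obj j)), DRing.IsPerfect (F.obj j) Kj ∧
      Nonempty ((DRing.LBaseChange (c.ι.app j).hom).obj Kj ≅ K) := by
  classical
  obtain ⟨E, a, b, hE, hp, ⟨eK⟩⟩ := hK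
  have hpres : ∀ i, ∃ (m : ℕ) (r : (Fin m → c.pt) →ₗ[c.pt] E.X i) (s : E.X i →ₗ[c.pt] (Fin m → c.pt)),
      (i ∉ Finset.Icc a b → m = 0) ∧ ∀ x, r (s x) = x := fun i => by
    by_cases hi : i ∈ Finset.Icc a b
    · haveI := (hp i).1
      haveI := (hp i).2
      obtain ⟨m, r, hr⟩ := Module.Finite.exists_fin' c.pt (E.X i)
      obtain ⟨s, hs⟩ := Module.projective_lifting_property r LinearMap.id hr
      exact ⟨m, r, s, fun h => absurd hi h, fun x => LinearMap.congr_fun hs x⟩
    · have : Subsingleton (E.X i) := ModuleCat.subsingleton_of_isZero (hE i (by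
        simp only [Finset.mem_Icc, not_and_or, not_le] at hi
        exact hi))
      exact ⟨0, 0, 0, fun _ => rfl, fun x => Subsingleton.elim _ _⟩
  choose m r s hm hrs using hpres
  let M : Data c.pt m := ⟨fun i => LinearMap.toMatrix' (s i ∘ₗ r i),
    fun i => LinearMap.toMatrix' (s (i + 1) ∘ₗ (E.d i (i + 1)).hom ∘ₗ r i)⟩
  have hMi : ∀ i, M.GoodAt i := fun i => by
    refine ⟨?_, ?_, ?_, ?_⟩ <;> simp only [M, ← LinearMap.toMatrix'_comp]
    · exact congrArg LinearMap.toMatrix' (LinearMap.ext fun x => by simp [hrs])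
    · exact congrArg LinearMap.toMatrix' (LinearMap.ext fun x => by simp [hrs])
    · exact congrArg LinearMap.toMatrix' (LinearMap.ext fun x => by simp [hrs])
    · refine (congrArg LinearMap.toMatrix' (LinearMap.ext fun x => ?_)).trans (map_zero _)
      have hdd := congrArg (fun t => t.hom (r i x)) (E.d_comp_d i (i + 1) (i + 1 + 1))
      simp only [LinearMap.comp_apply, hrs, LinearMap.zero_apply]
      refine (congrArg (s (i + 1 + 1)) ?_).trans (map_zero _)
      exact hdd
  obtain ⟨j₀, M₀, hM₀⟩ := exists_data hc M (Finset.Icc a b) hm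
  obtain ⟨j, φ, hgood⟩ := exists_good hc M₀ (Finset.Icc (a - 1) b) fun i _ => hM₀ ▸ hMi i
  let M' := M₀.map (F.map φ).hom
  have hM' : M'.map (c.ι.app j).hom = M := by
    rw [Data.map_map, ← CommRingCat.hom_comp, c.w φ, hM₀]
  have hall : ∀ i, M'.GoodAt i := fun i => by
    by_cases hi : i ∈ Finset.Icc (a - 1) b
    · exact hgood i hi
    · have h0 : IsEmpty (Fin (m i)) := by
        rw [hm i (by simp only [Finset.mem_Icc] at hi ⊢; omega)]; infer_instance
      exact ⟨Matrix.ext fun x => h0.elim x, Matrix.ext fun _ z => h0.elim z, Matrix.ext fun _ z => h0.elim z,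
        Matrix.ext fun _ z => h0.elim z⟩
  have hfp : DRing.TermwiseFiniteProjective (cx M' hall) := fun i => by
    refine ⟨inferInstanceAs (Module.Finite (F.obj j) (P M' i)), ?_⟩
    exact Module.Projective.of_split (P M' i).subtype (Matrix.toLin' (M'.e i)).rangeRestrict
      (LinearMap.ext fun (x : P M' i) => Subtype.ext (by
        obtain ⟨y, hy⟩ := x.2
        show Matrix.toLin' (M'.e i) (x : Fin (m i) → F.obj j) = x
        rw [← hy, ← LinearMap.comp_apply, ← Matrix.toLin'_mul, (hall i).1]))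
  have hvan : DRing.VanishesOutside (cx M' hall) a b := fun i hi => by
    haveI : IsEmpty (Fin (m i)) := by
      rw [hm i (by simp only [Finset.mem_Icc]; omega)]; infer_instance
    exact @ModuleCat.isZero_of_subsingleton _ _ _ (inferInstanceAs (Subsingleton (P M' i)))
  obtain ⟨eE⟩ := nonempty_ext_iso M' hall (c.ι.app j).hom r s hrs
    (fun i => by
      rw [show (M'.e i).map (c.ι.app j).hom = M.e i from congrFun (congrArg Data.e hM') i]; exact Matrix.toLin'_toMatrix' _)
    (fun i => by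
      rw [show (M'.D i).map (c.ι.app j).hom = M.D i from congrFun (congrArg Data.D hM') i]; exact Matrix.toLin'_toMatrix' _)
  exact ⟨j, DRing.toD (cx M' hall), ⟨_, a, b, hvan, hfp, ⟨Iso.refl _⟩⟩,
    ⟨TorAmp.lbaseObj (c.ι.app j).hom (cx M' hall) (TorAmp.isKFlat_of_flat (fun i hi => hvan i (Or.inr hi))
      (fun i => by haveI := (hfp i).2; infer_instance)) ≪≫ DerivedCategory.Q.mapIso eE ≪≫ eK⟩⟩

end Groth.Agent.H4DR.Descend
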